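import Mathlib
import Cfsg.Agent.Helper71.BSW.Defs

/-!
# (C8) for helper71's S3282 (abstract Brauer–Suzuki–Wall), #10917: `C(v) = C(z)` for `1 ≠ v ∈ C(z)`
-/

set_option autoImplicit false
set_option linter.unusedVariables false

namespace Cfsg.Agent.Helper31.BSW

open Cfsg.Agent.Helper71.BSW

theorem c_cent_Q_eq {G : Type*} [Group G] [Finite G] {t s : G} {K : Subgroup G} {q d : ℕ}
    (c : Ctx t s K q d)
    (h_arith : Odd q ∧ Odd d ∧ q.Coprime (2 * Nat.card K) ∧ d.Coprime (2 * Nat.card K) ∧ q.Coprime d ∧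
      q ^ 2 = 4 * Nat.card K * d + 1 ∧ 3 ≤ d ∧ 7 ≤ q)
    (h_card_cent_Q : ∀ z : G, z ≠ 1 → (orderOf z).Coprime (2 * Nat.card K * d) →
    Nat.card (Subgroup.centralizer ({z} : Set G)) = q)
    (h_abelian_Q : ∀ z : G, z ≠ 1 → (orderOf z).Coprime (2 * Nat.card K * d) →
    ∀ a ∈ Subgroup.centralizer ({z} : Set G), ∀ b ∈ Subgroup.centralizer ({z} : Set G),
      a * b = b * a) :
    ∀ z v : G, z ≠ 1 → (orderOf z).Coprime (2 * Nat.card K * d) →
    v ∈ Subgroup.centralizer ({z} : Set G) → v ≠ 1 →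
    (orderOf v).Coprime (2 * Nat.card K * d) ∧
      Subgroup.centralizer ({v} : Set G) = Subgroup.centralizer ({z} : Set G) := by
  intro z v hz hzc hv hv1
  obtain ⟨-, -, hqk, -, hqd, -, -, -⟩ := h_arith
  have hq : q.Coprime (2 * Nat.card K * d) := Nat.Coprime.mul_right hqk hqd
  have hvq : orderOf v ∣ q := by
    rw [← h_card_cent_Q z hz hzc]
    exact Subgroup.orderOf_dvd_natCard _ hv
  have hvc : (orderOf v).Coprime (2 * Nat.card K * d) := Nat.Coprime.coprime_dvd_left hvq hq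
  refine ⟨hvc, ?_⟩
  have hle : Subgroup.centralizer ({z} : Set G) ≤ Subgroup.centralizer ({v} : Set G) := by
    intro a ha
    rw [Subgroup.mem_centralizer_singleton_iff]
    exact h_abelian_Q z hz hzc a ha v hv
  have hcard : Nat.card (Subgroup.centralizer ({v} : Set G)) ≤
      Nat.card (Subgroup.centralizer ({z} : Set G)) := by
    rw [h_card_cent_Q z hz hzc, h_card_cent_Q v hv1 hvc]
  exact (Subgroup.eq_of_le_of_card_ge hle hcard).symm

end Cfsg.Agent.Helper31.BSW
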