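import Mathlib
import Cfsg.Agent.Helper71.BSW.Defs

/-!
# (C9) for helper71's S3282 (abstract Brauer–Suzuki–Wall), #10918: the subgroups `C(z)`
(`z` a `q`-element) are all conjugate

For a prime `p ∣ q` and a `q`-element `z`, some Sylow `p`-subgroup of `G` lies in `C(z)`
(`exists_sylow_le_cent`: an element `v` of order `p` of `C(z)` (Cauchy) lies in a Sylow `p`-subgroup `P`;
a nontrivial `w ∈ Z(P)` centralizes `v`, so `w ∈ C(v) = C(z)` and `P ≤ C(w) = C(z)`).  Two such Sylow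
subgroups are conjugate, and `C(g v g⁻¹) = g C(v) g⁻¹`.
-/

set_option autoImplicit false
set_option linter.unusedVariables false

namespace Cfsg.Agent.Helper31.BSW

open Cfsg.Agent.Helper71.BSW

/-- the centralizer of a conjugate -/
theorem centralizer_conj_eq_map {G : Type*} [Group G] (g v : G) :
    (Subgroup.centralizer ({v} : Set G)).map (MulAut.conj g).toMonoidHom =
      Subgroup.centralizer ({g * v * g⁻¹} : Set G) := by
  ext x
  rw [Subgroup.mem_map]
  constructor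
  · rintro ⟨y, hy, rfl⟩
    rw [Subgroup.mem_centralizer_singleton_iff] at hy ⊢
    show (g * y * g⁻¹) * (g * v * g⁻¹) = (g * v * g⁻¹) * (g * y * g⁻¹)
    have : (g * y * g⁻¹) * (g * v * g⁻¹) = g * (y * v) * g⁻¹ := by group
    rw [this, hy]
    group
  · intro hx
    rw [Subgroup.mem_centralizer_singleton_iff] at hx
    refine ⟨g⁻¹ * x * g, ?_, ?_⟩
    · rw [Subgroup.mem_centralizer_singleton_iff]
      have h1 : g⁻¹ * x * g * v = g⁻¹ * (x * (g * v * g⁻¹)) * g := by group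
      have h2 : v * (g⁻¹ * x * g) = g⁻¹ * ((g * v * g⁻¹) * x) * g := by group
      rw [h1, h2, hx]
    · show g * (g⁻¹ * x * g) * g⁻¹ = x
      group

/-- some Sylow `p`-subgroup of `G` lies in `C(z)` -/
theorem exists_sylow_le_cent {G : Type*} [Group G] [Finite G] {K : Subgroup G} {q d : ℕ}
    (h_card_cent_Q : ∀ z : G, z ≠ 1 → (orderOf z).Coprime (2 * Nat.card K * d) →
    Nat.card (Subgroup.centralizer ({z} : Set G)) = q)
    (h_cent_Q_eq : ∀ z v : G, z ≠ 1 → (orderOf z).Coprime (2 * Nat.card K * d) →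
    v ∈ Subgroup.centralizer ({z} : Set G) → v ≠ 1 →
    (orderOf v).Coprime (2 * Nat.card K * d) ∧
      Subgroup.centralizer ({v} : Set G) = Subgroup.centralizer ({z} : Set G))
    (p : ℕ) [hp : Fact p.Prime] (hpq : p ∣ q)
    (z : G) (hz : z ≠ 1) (hzc : (orderOf z).Coprime (2 * Nat.card K * d)) :
    ∃ P : Sylow p G, (P : Subgroup G) ≤ Subgroup.centralizer ({z} : Set G) ∧
      ∃ v ∈ (P : Subgroup G), v ≠ 1 := by
  -- Cauchy in `C(z)`
  obtain ⟨x, hx⟩ := exists_prime_orderOf_dvd_card' (G := ↥(Subgroup.centralizer ({z} : Set G))) p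
    (by rw [h_card_cent_Q z hz hzc]; exact hpq)
  have hv : (x : G) ∈ Subgroup.centralizer ({z} : Set G) := x.2
  have hvo : orderOf (x : G) = p := by rw [Subgroup.orderOf_coe, hx]
  have hv1 : (x : G) ≠ 1 := by
    intro h
    rw [h, orderOf_one] at hvo
    exact hp.out.one_lt.ne hvo
  -- a Sylow subgroup containing `v`
  have hpg : IsPGroup p ↥(Subgroup.zpowers (x : G)) :=
    IsPGroup.of_card (n := 1) (by rw [Nat.card_zpowers, hvo, pow_one])
  obtain ⟨P, hP⟩ := hpg.exists_le_sylow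
  have hvP : (x : G) ∈ (P : Subgroup G) := hP (Subgroup.mem_zpowers _)
  refine ⟨P, ?_, (x : G), hvP, hv1⟩
  -- a nontrivial central element of `P`
  have : Nontrivial ↥(P : Subgroup G) :=
    ⟨⟨⟨(x : G), hvP⟩, 1, fun h => hv1 (congrArg Subtype.val h)⟩⟩
  have hcn : Nontrivial (Subgroup.center ↥(P : Subgroup G)) := P.isPGroup'.center_nontrivial
  obtain ⟨w, hw⟩ := exists_ne (1 : Subgroup.center ↥(P : Subgroup G))
  have hwc : ∀ y : ↥(P : Subgroup G), y * w.1 = w.1 * y := Subgroup.mem_center_iff.mp w.2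
  have hw1 : ((w.1 : ↥(P : Subgroup G)) : G) ≠ 1 := by
    intro h
    apply hw
    apply Subtype.ext
    apply Subtype.ext
    exact h
  have hCv := h_cent_Q_eq z (x : G) hz hzc hv hv1
  -- `w ∈ C(v) = C(z)`
  have hwv : ((w.1 : ↥(P : Subgroup G)) : G) ∈ Subgroup.centralizer ({(x : G)} : Set G) := by
    rw [Subgroup.mem_centralizer_singleton_iff]
    have := congrArg Subtype.val (hwc ⟨(x : G), hvP⟩)
    exact this.symm
  rw [hCv.2] at hwv
  have hCw := h_cent_Q_eq z _ hz hzc hwv hw1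
  intro y hy
  rw [← hCw.2, Subgroup.mem_centralizer_singleton_iff]
  have := congrArg Subtype.val (hwc ⟨y, hy⟩)
  exact this

theorem c_cent_Q_conj {G : Type*} [Group G] [Finite G] {t s : G} {K : Subgroup G} {q d : ℕ}
    (c : Ctx t s K q d)
    (h_arith : Odd q ∧ Odd d ∧ q.Coprime (2 * Nat.card K) ∧ d.Coprime (2 * Nat.card K) ∧ q.Coprime d ∧
      q ^ 2 = 4 * Nat.card K * d + 1 ∧ 3 ≤ d ∧ 7 ≤ q)
    (h_card_cent_Q : ∀ z : G, z ≠ 1 → (orderOf z).Coprime (2 * Nat.card K * d) →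
    Nat.card (Subgroup.centralizer ({z} : Set G)) = q)
    (h_cent_Q_eq : ∀ z v : G, z ≠ 1 → (orderOf z).Coprime (2 * Nat.card K * d) →
    v ∈ Subgroup.centralizer ({z} : Set G) → v ≠ 1 →
    (orderOf v).Coprime (2 * Nat.card K * d) ∧
      Subgroup.centralizer ({v} : Set G) = Subgroup.centralizer ({z} : Set G)) :
    ∀ z z' : G, z ≠ 1 → (orderOf z).Coprime (2 * Nat.card K * d) → z' ≠ 1 →
    (orderOf z').Coprime (2 * Nat.card K * d) →
    ∃ g : G, (Subgroup.centralizer ({z} : Set G)).map (MulAut.conj g).toMonoidHom =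
      Subgroup.centralizer ({z'} : Set G) := by
  intro z z' hz hzc hz' hzc'
  have hq1 : q ≠ 1 := by
    obtain ⟨-, -, -, -, -, -, -, h7⟩ := h_arith
    omega
  obtain ⟨p, hp, hpq⟩ := Nat.exists_prime_and_dvd hq1
  have : Fact p.Prime := ⟨hp⟩
  obtain ⟨P₁, hP₁, v, hvP, hv1⟩ := exists_sylow_le_cent h_card_cent_Q h_cent_Q_eq p hpq z hz hzc
  obtain ⟨P₂, hP₂, -⟩ := exists_sylow_le_cent h_card_cent_Q h_cent_Q_eq p hpq z' hz' hzc'
  obtain ⟨g, hg⟩ := MulAction.exists_smul_eq G P₁ P₂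
  refine ⟨g, ?_⟩
  have hCv := (h_cent_Q_eq z v hz hzc (hP₁ hvP) hv1).2
  have hgv : g * v * g⁻¹ ∈ (P₂ : Subgroup G) := by
    rw [← hg, Sylow.coe_subgroup_smul]
    exact Subgroup.smul_mem_pointwise_smul v (MulAut.conj g) _ hvP
  have hgv1 : g * v * g⁻¹ ≠ 1 := by
    intro h
    apply hv1
    have : v = g⁻¹ * (g * v * g⁻¹) * g := by group
    rw [this, h]
    group
  have hCgv := (h_cent_Q_eq z' (g * v * g⁻¹) hz' hzc' (hP₂ hgv) hgv1).2
  rw [← hCv, centralizer_conj_eq_map, hCgv]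

end Cfsg.Agent.Helper31.BSW
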